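import Groth.Agent.FibDegLib.Strata
import Groth.Agent.AlgSpLib.AffineFpqc

/-!
# Finite schemes of bounded degree over a field
-/

set_option autoImplicit false
set_option linter.style.haveILetI false
set_option backward.isDefEq.respectTransparency false
set_option backward.isDefEq.respectTransparency.types false

universe u

open CategoryTheory CategoryTheory.Limits AlgebraicGeometry TopologicalSpace IsLocalRing Opposite TensorProduct

namespace UBddLib

variable {K : Type u} [Field K]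

/-- Finite of degree at most `n` over a field. -/
def Bdd {T : Scheme.{u}} (n : ℕ) (c : T ⟶ Spec (CommRingCat.of K)) : Prop :=
  IsFinite c ∧ FibDegLib.gRank c ≤ (n : Cardinal.{u})

theorem bdd_iff_finrank {T : Scheme.{u}} (n : ℕ) (c : T ⟶ Spec (CommRingCat.of K)) :
    Bdd n c ↔ IsFinite c ∧ ∀ s, c.finrank s ≤ n := by
  refine ⟨fun ⟨h, hn⟩ => ⟨h, fun s => ?_⟩, fun ⟨h, hn⟩ => ⟨h, ?_⟩⟩
  · haveI := h
    rw [← FibDegLib.natCast_finrank c s] at hn
    exact_mod_cast hn
  · haveI := h
    rw [← FibDegLib.natCast_finrank c (closedPoint K)]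
    exact_mod_cast hn _

theorem Bdd.mono {T : Scheme.{u}} {n m : ℕ} {c : T ⟶ Spec (CommRingCat.of K)} (h : Bdd n c) (hnm : n ≤ m) :
    Bdd m c :=
  ⟨h.1, h.2.trans (Nat.cast_le.2 hnm)⟩

theorem Bdd.finite {T : Scheme.{u}} {n : ℕ} {c : T ⟶ Spec (CommRingCat.of K)} (h : Bdd n c) : Finite T := by
  haveI := h.1
  have hf := c.finite_preimage_singleton (closedPoint K)
  rw [show c ⁻¹' {closedPoint K} = Set.univ from
    Set.eq_univ_of_forall fun z => Subsingleton.elim (c z) _] at hf
  exact Set.finite_univ_iff.1 hf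

theorem Bdd.opens {T A : Scheme.{u}} {n : ℕ} {c : T ⟶ Spec (CommRingCat.of K)} (h : Bdd n c) (j : A ⟶ T)
    [IsOpenImmersion j] : Bdd n (j ≫ c) := by
  haveI := h.1
  haveI := h.finite
  haveI : Finite A := Finite.of_injective _ j.isOpenEmbedding.injective
  exact ⟨FibDegLib.isFinite_of_finite _ inferInstance,
    (FibDegLib.gRank_le c (j ≫ c) j rfl (FibDegLib.isClosed_range c j)).trans h.2⟩

theorem Bdd.of_iso {T A : Scheme.{u}} {n : ℕ} {c : T ⟶ Spec (CommRingCat.of K)} {c' : A ⟶ Spec (CommRingCat.of K)}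
    (h : Bdd n c) (j : A ⟶ T) [IsIso j] (hj : j ≫ c = c') : Bdd n c' := hj ▸ h.opens j

theorem bdd_of_isPullback {Ω : Type u} [Field Ω] {T T' : Scheme.{u}} {c : T ⟶ Spec (CommRingCat.of K)}
    {c' : T' ⟶ Spec (CommRingCat.of Ω)} {φ : Spec (CommRingCat.of Ω) ⟶ Spec (CommRingCat.of K)} {m : T' ⟶ T}
    (h : IsPullback m c' c φ) (n : ℕ) : Bdd n c' ↔ Bdd n c := by
  have hfin : IsFinite c ↔ IsFinite c' := by
    refine ⟨fun hc => MorphismProperty.of_isPullback (P := @IsFinite) h hc, fun hc => ?_⟩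
    haveI := AlgSpLib.descendsAlong_isFinite.{u}
    exact MorphismProperty.of_isPullback_of_descendsAlong (P := @IsFinite)
      (Q := @Surjective ⊓ @Flat ⊓ @QuasiCompact) h.flip
      ⟨⟨⟨fun x => ⟨closedPoint Ω, Subsingleton.elim _ _⟩⟩, inferInstance⟩, inferInstance⟩ hc
  constructor
  · rintro ⟨h1, h2⟩
    haveI := h1
    haveI := hfin.2 h1
    refine ⟨inferInstance, ?_⟩
    rwa [← FibDegLib.natCast_finrank c' (closedPoint Ω), Scheme.Hom.finrank_of_isPullback m _ _ _ h,
      FibDegLib.natCast_finrank] at h2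
  · rintro ⟨h1, h2⟩
    haveI := h1
    haveI := hfin.1 h1
    refine ⟨inferInstance, ?_⟩
    rwa [← FibDegLib.natCast_finrank c' (closedPoint Ω), Scheme.Hom.finrank_of_isPullback m _ _ _ h,
      FibDegLib.natCast_finrank]

/-- Sections of a scheme are detected by a jointly surjective flat family. -/
theorem eq_zero_of_flat_family {T : Scheme.{u}} {ι : Type*} {A : ι → Scheme.{u}} (π : ∀ i, A i ⟶ T)
    [∀ i, Flat (π i)] (hsurj : ∀ t, ∃ i, t ∈ Set.range (π i)) (V : T.Opens) (x : Γ(T, V))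
    (hx : ∀ i, (π i).app V x = 0) : x = 0 := by
  refine TopCat.Presheaf.section_ext T.sheaf V x 0 fun t ht => ?_
  obtain ⟨i, a, rfl⟩ := hsurj t
  show T.presheaf.germ V (π i a) ht x = T.presheaf.germ V (π i a) ht 0
  rw [map_zero]
  algebraize [((π i).stalkMap a).hom]
  haveI : IsLocalHom (algebraMap (T.presheaf.stalk (π i a)) ((A i).presheaf.stalk a)) :=
    inferInstanceAs <| IsLocalHom ((π i).stalkMap a).hom
  haveI : Module.Flat (T.presheaf.stalk (π i a)) ((A i).presheaf.stalk a) := Flat.stalkMap (π i) a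
  haveI : Module.FaithfullyFlat (T.presheaf.stalk (π i a)) ((A i).presheaf.stalk a) :=
    Module.FaithfullyFlat.of_flat_of_isLocalHom
  apply FaithfulSMul.algebraMap_injective (T.presheaf.stalk (π i a)) ((A i).presheaf.stalk a)
  rw [map_zero]
  show (π i).stalkMap a (T.presheaf.germ V (π i a) ht x) = 0
  rw [Scheme.Hom.germ_stalkMap_apply, hx, map_zero]

theorem injective_appTop_family {T : Scheme.{u}} {ι : Type*} {A : ι → Scheme.{u}} (π : ∀ i, A i ⟶ T)
    [∀ i, Flat (π i)] (hsurj : ∀ t, ∃ i, t ∈ Set.range (π i)) :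
    Function.Injective (fun (x : Γ(T, ⊤)) i => (π i).appTop x) := fun x y h =>
  sub_eq_zero.1 (eq_zero_of_flat_family π hsurj ⊤ (x - y) fun i => by
    rw [map_sub, sub_eq_zero]; exact congrFun h i)

theorem gRank_le_sum {T : Scheme.{u}} (c : T ⟶ Spec (CommRingCat.of K)) {ι : Type} [Fintype ι]
    {A : ι → Scheme.{u}} (π : ∀ i, A i ⟶ T) [∀ i, Flat (π i)] (hsurj : ∀ t, ∃ i, t ∈ Set.range (π i))
    (n : ι → ℕ) (h : ∀ i, Bdd (n i) (π i ≫ c)) :
    FibDegLib.gRank c ≤ ((∑ i, n i : ℕ) : Cardinal.{u}) := by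
  letI a₁ := ((Scheme.ΓSpecIso (CommRingCat.of K)).inv ≫ c.appTop).hom.toAlgebra
  letI a₂ : ∀ i, Algebra K Γ(A i, ⊤) :=
    fun i => ((Scheme.ΓSpecIso (CommRingCat.of K)).inv ≫ (π i ≫ c).appTop).hom.toAlgebra
  let l : Γ(T, ⊤) →ₗ[K] (∀ i, Γ(A i, ⊤)) :=
    LinearMap.pi fun i => (⟨(π i).appTop.hom, fun r => by
      show (π i).appTop (((Scheme.ΓSpecIso (CommRingCat.of K)).inv ≫ c.appTop) r) =
        ((Scheme.ΓSpecIso (CommRingCat.of K)).inv ≫ (π i ≫ c).appTop) r
      simp⟩ : Γ(T, ⊤) →ₐ[K] Γ(A i, ⊤)).toLinearMap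
  have hfd : ∀ i, Module.rank K (Γ(A i, ⊤) : Type u) ≤ (n i : Cardinal.{u}) := fun i => (h i).2
  haveI : ∀ i, Module.Finite K (Γ(A i, ⊤) : Type u) := fun i =>
    Module.rank_lt_aleph0_iff.1 ((hfd i).trans_lt Cardinal.natCast_lt_aleph0)
  refine (LinearMap.rank_le_of_injective l (injective_appTop_family π hsurj)).trans ?_
  rw [← Module.finrank_eq_rank, Nat.cast_le, Module.finrank_pi_fintype]
  refine Finset.sum_le_sum fun i _ => ?_
  have := hfd i
  rw [← Module.finrank_eq_rank] at this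
  exact_mod_cast this

theorem bdd_of_flat_family {T : Scheme.{u}} (c : T ⟶ Spec (CommRingCat.of K)) {ι : Type} [Fintype ι]
    {A : ι → Scheme.{u}} (π : ∀ i, A i ⟶ T) [∀ i, Flat (π i)] (hsurj : ∀ t, ∃ i, t ∈ Set.range (π i))
    (n : ι → ℕ) (h : ∀ i, Bdd (n i) (π i ≫ c)) : Bdd (∑ i, n i) c := by
  haveI := fun i => (h i).finite
  haveI : Finite T := Finite.of_surjective (fun p : Σ i, A i => π p.1 p.2) fun t => by
    obtain ⟨i, a, e⟩ := hsurj t; exact ⟨⟨i, a⟩, e⟩
  haveI : LocallyQuasiFinite c := by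
    refine IsZariskiLocalAtSource.of_iSup_eq_top (P := @LocallyQuasiFinite) (fun U : T.affineOpens => U.1)
      (iSup_affineOpens_eq_top T) fun U => ?_
    haveI : IsAffine U.1.toScheme := U.2
    have hb : ∀ i, Bdd (n i) ((π i ∣_ U.1) ≫ U.1.ι ≫ c) := fun i => by
      rw [← Category.assoc, morphismRestrict_ι, Category.assoc]
      exact (h i).opens (π i ⁻¹ᵁ U.1).ι
    have hU : ∀ x : U.1.toScheme, ∃ i, x ∈ Set.range (π i ∣_ U.1) := fun x => by
      obtain ⟨i, a, e⟩ := hsurj x.1
      refine ⟨i, ⟨a, show π i a ∈ U.1 from e ▸ x.2⟩, Subtype.ext ?_⟩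
      simpa [morphismRestrict_base] using e
    have hr := gRank_le_sum (U.1.ι ≫ c) (fun i => π i ∣_ U.1) hU n hb
    let φ := (Scheme.ΓSpecIso (CommRingCat.of K)).inv ≫ (U.1.ι ≫ c).appTop
    have hφ : U.1.toScheme.isoSpec.hom ≫ Spec.map φ = U.1.ι ≫ c := by
      rw [Spec.map_comp, ← Category.assoc, Scheme.isoSpec_hom_naturality, Category.assoc,
        Scheme.isoSpec_Spec_hom, ← Spec.map_comp]
      simp
    haveI : IsFinite (U.1.ι ≫ c) := by
      rw [← hφ, MorphismProperty.cancel_left_of_respectsIso @IsFinite, IsFinite.SpecMap_iff]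
      letI := φ.hom.toAlgebra
      exact (Module.rank_lt_aleph0_iff (R := K) (M := (Γ(U.1.toScheme, ⊤) : Type u))).1
        (hr.trans_lt Cardinal.natCast_lt_aleph0)
    infer_instance
  exact ⟨FibDegLib.isFinite_of_finite c inferInstance, gRank_le_sum c π hsurj n h⟩

/-- A dimension bound for modules over a finite algebra. -/
theorem finrank_le_of_fibres {B M : Type u} [CommRing B] [Algebra K B] [Module.Finite K B] [AddCommGroup M]
    [Module B M] [Module K M] [IsScalarTower K B M] [Module.Finite B M] (m : ℕ)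
    (h : ∀ p : Ideal B, p.IsMaximal →
      Module.finrank K (M ⧸ p • (⊤ : Submodule B M)) ≤ m * Module.finrank K (B ⧸ p)) :
    Module.finrank K M ≤ m * Module.finrank K B := by
  haveI : IsArtinianRing B := IsArtinianRing.of_finite K B
  haveI : Module.Finite K M := Module.Finite.trans B M
  suffices key : ∀ I : Ideal B,
      Module.finrank K (M ⧸ I • (⊤ : Submodule B M)) ≤ m * Module.finrank K (B ⧸ I) by
    have := key ⊥
    rw [Submodule.bot_smul, ((Submodule.quotEquivOfEqBot (⊥ : Submodule B M) rfl).restrictScalars K).finrank_eq,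
      ((Submodule.quotEquivOfEqBot (⊥ : Ideal B) rfl).restrictScalars K).finrank_eq] at this
    exact this
  intro I
  induction I using IsNoetherian.induction with
  | hgt I ih =>
  by_cases hI : I = ⊤
  · subst hI
    haveI : Subsingleton (M ⧸ (⊤ : Ideal B) • (⊤ : Submodule B M)) :=
      Submodule.Quotient.subsingleton_iff.2 (Submodule.top_smul _)
    rw [Module.finrank_zero_of_subsingleton]
    exact Nat.zero_le _
  haveI : Nontrivial (B ⧸ I) := Ideal.Quotient.nontrivial_iff.2 hI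
  obtain ⟨x₀, hx₀⟩ : ∃ x₀ : B, x₀ ∉ I := SetLike.exists_not_mem_of_ne_top I hI
  let ann : B → Ideal B := fun x => Submodule.comap (LinearMap.toSpanSingleton B B x) I
  obtain ⟨p, ⟨x, hx, rfl⟩, hmax⟩ := set_has_maximal_iff_noetherian.2 (inferInstance : IsNoetherian B B)
    {q | ∃ x, x ∉ I ∧ ann x = q} ⟨_, x₀, hx₀, rfl⟩
  have hmem : ∀ {b z : B}, b ∈ ann z ↔ b * z ∈ I := fun {b z} => Iff.rfl
  haveI : (ann x).IsPrime := by
    refine ⟨fun h => hx ?_, fun {a b} hab => or_iff_not_imp_left.2 fun ha => ?_⟩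
    · simpa using hmem.1 (h ▸ Submodule.mem_top : (1 : B) ∈ ann x)
    · have hle : ann x ≤ ann (a * x) := fun c hc => hmem.2 (by
        rw [mul_left_comm]; exact Ideal.mul_mem_left I a (hmem.1 hc))
      have heq : ann x = ann (a * x) := hle.eq_of_not_lt fun hlt => hmax _ ⟨_, fun h => ha (hmem.2 h), rfl⟩ hlt
      rw [heq]
      refine hmem.2 ?_
      rw [← mul_assoc, mul_comm b a]
      exact hmem.1 hab
  haveI hpm : (ann x).IsMaximal := IsArtinianRing.isMaximal_of_isPrime _
  let J : Ideal B := I ⊔ Ideal.span {x}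
  have hIJ : I < J := lt_of_le_of_ne le_sup_left fun e => hx (e ▸ Ideal.mem_sup_right (Ideal.mem_span_singleton_self x))
  have hJ := ih J hIJ
  let δ : (B ⧸ ann x) →ₗ[B] (B ⧸ I) := Submodule.mapQ _ _ (LinearMap.toSpanSingleton B B x) le_rfl
  have hδ : Function.Injective δ := by
    rw [← LinearMap.ker_eq_bot, Submodule.eq_bot_iff]
    intro z hz
    obtain ⟨b, rfl⟩ := Submodule.Quotient.mk_surjective _ z
    rw [LinearMap.mem_ker, Submodule.mapQ_apply, Submodule.Quotient.mk_eq_zero] at hz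
    exact (Submodule.Quotient.mk_eq_zero _).2 hz
  let π : (B ⧸ I) →ₗ[B] (B ⧸ J) := Submodule.mapQ _ _ LinearMap.id le_sup_left
  have h1 : Module.finrank K (B ⧸ I) = Module.finrank K (B ⧸ J) + Module.finrank K (B ⧸ ann x) := by
    have := (π.restrictScalars K).finrank_range_add_finrank_ker
    have hπ : Function.Surjective π := fun z => by
      obtain ⟨b, rfl⟩ := Submodule.Quotient.mk_surjective _ z
      exact ⟨Submodule.Quotient.mk b, rfl⟩
    have hker : LinearMap.ker (π.restrictScalars K) = LinearMap.range (δ.restrictScalars K) := by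
      refine le_antisymm (fun z hz => ?_) ?_
      · obtain ⟨b, rfl⟩ := Submodule.Quotient.mk_surjective _ z
        have hb : b ∈ J := (Submodule.Quotient.mk_eq_zero _).1 (show π (Submodule.Quotient.mk b) = 0 from hz)
        obtain ⟨i, hi, y, hy, rfl⟩ := Submodule.mem_sup.1 hb
        obtain ⟨c, rfl⟩ := Ideal.mem_span_singleton'.1 hy
        refine ⟨Submodule.Quotient.mk c, ?_⟩
        show δ (Submodule.Quotient.mk c) = _
        rw [Submodule.mapQ_apply, Submodule.Quotient.eq]
        simpa using hi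
      · rintro _ ⟨z, rfl⟩
        obtain ⟨b, rfl⟩ := Submodule.Quotient.mk_surjective _ z
        exact (Submodule.Quotient.mk_eq_zero J).2 (Ideal.mul_mem_left _ b
          (Ideal.mem_sup_right (Ideal.mem_span_singleton_self x)))
    rw [hker, LinearMap.finrank_range_of_inj (f := δ.restrictScalars K) hδ, LinearMap.range_eq_top.2 (show Function.Surjective (π.restrictScalars K) from hπ), finrank_top] at this
    omega
  let δM : (M ⧸ ann x • (⊤ : Submodule B M)) →ₗ[B] (M ⧸ I • (⊤ : Submodule B M)) :=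
    Submodule.mapQ _ _ (x • LinearMap.id) (Submodule.smul_le.2 fun b hb z _ => by
      show x • b • z ∈ I • (⊤ : Submodule B M)
      rw [smul_smul, mul_comm]
      exact Submodule.smul_mem_smul (hmem.1 hb) trivial)
  let πM : (M ⧸ I • (⊤ : Submodule B M)) →ₗ[B] (M ⧸ J • (⊤ : Submodule B M)) :=
    Submodule.mapQ _ _ LinearMap.id (Submodule.smul_mono_left le_sup_left)
  have h2 : Module.finrank K (M ⧸ I • (⊤ : Submodule B M)) ≤
      Module.finrank K (M ⧸ J • (⊤ : Submodule B M)) + Module.finrank K (M ⧸ ann x • (⊤ : Submodule B M)) := by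
    rw [← (πM.restrictScalars K).finrank_range_add_finrank_ker]
    refine Nat.add_le_add (Submodule.finrank_le _) ((Submodule.finrank_mono ?_).trans
      (δM.restrictScalars K).finrank_range_le)
    intro z hz
    obtain ⟨w, rfl⟩ := Submodule.Quotient.mk_surjective _ z
    have hw : w ∈ J • (⊤ : Submodule B M) :=
      (Submodule.Quotient.mk_eq_zero _).1 (show πM (Submodule.Quotient.mk w) = 0 from hz)
    rw [show J • (⊤ : Submodule B M) = I • ⊤ ⊔ Ideal.span {x} • ⊤ from Submodule.sup_smul _ _ _] at hw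
    obtain ⟨a, ha, b, hb, rfl⟩ := Submodule.mem_sup.1 hw
    rw [Submodule.ideal_span_singleton_smul] at hb
    obtain ⟨c, -, rfl⟩ := (Submodule.mem_smul_pointwise_iff_exists _ _ _).1 hb
    refine ⟨Submodule.Quotient.mk c, ?_⟩
    show δM (Submodule.Quotient.mk c) = _
    rw [Submodule.mapQ_apply, Submodule.Quotient.eq]
    simpa using ha
  have h3 := h _ hpm
  rw [h1, mul_add]
  omega

theorem bdd_snd_iff {A T : Scheme.{u}} (f : A ⟶ T) {Ω : Type u} [Field Ω] (g : Spec (CommRingCat.of Ω) ⟶ T) {t : T}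
    (hg : g (closedPoint Ω) = t) (m : ℕ) :
    Bdd m (pullback.snd f g) ↔ Bdd (K := T.residueField t) m (pullback.snd f (T.fromSpecResidueField t)) := by
  subst hg
  obtain ⟨φ, hφ⟩ := FibDegLib.exists_factor g
  let t := g (closedPoint Ω)
  have sq : IsPullback (pullback.lift (pullback.fst f g) (pullback.snd f g ≫ Spec.map φ)
      (by rw [Category.assoc, hφ]; exact pullback.condition)) (pullback.snd f g)
      (pullback.snd f (T.fromSpecResidueField t)) (Spec.map φ) :=
    IsPullback.of_right (by rw [pullback.lift_fst, hφ]; exact IsPullback.of_hasPullback f g)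
      (pullback.lift_snd _ _ _) (IsPullback.of_hasPullback _ _)
  exact bdd_of_isPullback sq m

set_option synthInstance.maxHeartbeats 200000 in
theorem Bdd.comp {A T : Scheme.{u}} {n m : ℕ} (f : A ⟶ T) {c : T ⟶ Spec (CommRingCat.of K)} (hc : Bdd n c)
    (hf : ∀ t, Bdd (K := T.residueField t) m (pullback.snd f (T.fromSpecResidueField t))) :
    Bdd (m * n) (f ≫ c) := by
  haveI := hc.1
  haveI := hc.finite
  haveI : LocallyQuasiFinite f := LocallyQuasiFinite.of_fiberToSpecResidueField f fun t => by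
    haveI : IsFinite (f.fiberToSpecResidueField t) := (hf t).1
    infer_instance
  haveI : Finite A := by
    have hfin : ∀ t, (f ⁻¹' {t}).Finite := fun t =>
      FibDegLib.finite_of_finite_fiber f ((hf t).finite (K := T.residueField t))
    exact Set.finite_univ_iff.1 ((Set.finite_univ.preimage' fun t _ => hfin t).subset (by simp))
  haveI : IsFinite (f ≫ c) := FibDegLib.isFinite_of_finite _ inferInstance
  haveI : IsFinite f := IsFinite.of_comp f c
  refine ⟨inferInstance, ?_⟩
  haveI : IsAffine T := isAffine_of_isAffineHom c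
  haveI : IsAffine A := isAffine_of_isAffineHom (f ≫ c)
  let B : Type u := Γ(T, ⊤)
  let M : Type u := Γ(A, ⊤)
  letI : Algebra K B := ((Scheme.ΓSpecIso (CommRingCat.of K)).inv ≫ c.appTop).hom.toAlgebra
  letI : Algebra K M := ((Scheme.ΓSpecIso (CommRingCat.of K)).inv ≫ (f ≫ c).appTop).hom.toAlgebra
  letI : Algebra B M := f.appTop.hom.toAlgebra
  haveI : IsScalarTower K B M := IsScalarTower.of_algebraMap_eq fun r => by
    show ((Scheme.ΓSpecIso (CommRingCat.of K)).inv ≫ (f ≫ c).appTop) r =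
      f.appTop (((Scheme.ΓSpecIso (CommRingCat.of K)).inv ≫ c.appTop) r)
    simp
  haveI : Module.Finite K B := Module.rank_lt_aleph0_iff.1 (hc.2.trans_lt Cardinal.natCast_lt_aleph0)
  haveI : Module.Finite B M := f.finite_appTop
  haveI : Module.Finite K M := Module.Finite.trans B M
  show Module.rank K M ≤ _
  rw [← Module.finrank_eq_rank, Nat.cast_le]
  have hn : Module.finrank K B ≤ n := by
    have h : Module.rank K B ≤ (n : Cardinal.{u}) := hc.2
    rw [← Module.finrank_eq_rank] at h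
    exact_mod_cast h
  refine le_trans (finrank_le_of_fibres m fun p hp => ?_) (Nat.mul_le_mul_left m hn)
  letI := Ideal.Quotient.field p
  let g : Spec (CommRingCat.of (B ⧸ p)) ⟶ T :=
    Spec.map (CommRingCat.ofHom (Ideal.Quotient.mk p)) ≫ T.isoSpec.inv
  have hpb := (isPullback_SpecMap_of_isPushout _ _ _ _
    (CommRingCat.isPushout_tensorProduct B (B ⧸ p) M)).flip
  have sq : IsPullback (Spec.map (CommRingCat.ofHom (S := (B ⧸ p) ⊗[B] M)
        Algebra.TensorProduct.includeRight.toRingHom) ≫ A.isoSpec.inv)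
      (Spec.map (CommRingCat.ofHom (S := (B ⧸ p) ⊗[B] M) Algebra.TensorProduct.includeLeftRingHom)) f g :=
    IsPullback.of_iso hpb (Iso.refl _) A.isoSpec.symm (Iso.refl _) T.isoSpec.symm (by simp) (by simp)
      (by
        show Spec.map f.appTop ≫ T.isoSpec.inv = A.isoSpec.inv ≫ f
        rw [Iso.comp_inv_eq, Category.assoc, ← Scheme.isoSpec_hom_naturality, Iso.inv_hom_id_assoc])
      (by
        show Spec.map (CommRingCat.ofHom (Ideal.Quotient.mk p)) ≫ T.isoSpec.inv = 𝟙 _ ≫ g
        rw [Category.id_comp])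
  obtain ⟨h₁, h₂⟩ := ((bdd_snd_iff f g rfl m).2 (hf _)).of_iso sq.isoPullback.hom sq.isoPullback_hom_snd
  haveI := h₁
  have h₃ : Module.finrank (B ⧸ p) ((B ⧸ p) ⊗[B] M) ≤ m := by
    rw [← FibDegLib.natCast_finrank _ (closedPoint (B ⧸ p))] at h₂
    have h₄ := Scheme.Hom.finrank_SpecMap_algebraMap (B ⧸ p) ((B ⧸ p) ⊗[B] M) (closedPoint (B ⧸ p))
    rw [Module.rankAtStalk_eq_finrank_of_free] at h₄
    have h₅ : (Spec.map (CommRingCat.ofHom (algebraMap (B ⧸ p) ((B ⧸ p) ⊗[B] M)))).finrank (closedPoint (B ⧸ p)) ≤ m :=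
      Nat.cast_le.1 h₂
    rw [h₄] at h₅
    simpa using h₅
  rw [← ((TensorProduct.quotTensorEquivQuotSMul M p).restrictScalars K).finrank_eq]
  calc Module.finrank K ((B ⧸ p) ⊗[B] M)
      = Module.finrank K (B ⧸ p) * Module.finrank (B ⧸ p) ((B ⧸ p) ⊗[B] M) :=
        (Module.finrank_mul_finrank K (B ⧸ p) ((B ⧸ p) ⊗[B] M)).symm
    _ ≤ m * Module.finrank K (B ⧸ p) := by rw [mul_comm m]; exact Nat.mul_le_mul_left _ h₃

/-- A flat separated quasi-finite morphism to an affine scheme has bounded fibres. -/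
theorem exists_bdd_fibres {A T : Scheme.{u}} [IsAffine T] (f : A ⟶ T) [Flat f] [LocallyOfFinitePresentation f]
    [IsSeparated f] [LocallyQuasiFinite f] [QuasiCompact f] :
    ∃ n, ∀ t, Bdd (K := T.residueField t) n (pullback.snd f (T.fromSpecResidueField t)) := by
  obtain ⟨hfin, -⟩ := WeightLib.finite_range_of_forall (FibDegLib.rk f) fun t =>
    FibDegLib.exists_constructible_rk_eq f t
  choose d hd using fun t => FibDegLib.exists_natCast_eq_rk f (f.finite_preimage_singleton t)
  have : (Set.range d).Finite := by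
    refine Set.Finite.of_finite_image (hfin.subset ?_) (f := fun k : ℕ => (k : Cardinal.{u}))
      (Nat.cast_injective.injOn)
    rintro _ ⟨_, ⟨t, rfl⟩, rfl⟩
    exact ⟨t, hd t⟩
  obtain ⟨n, hn⟩ := this.bddAbove
  refine ⟨n, fun t => ⟨FibDegLib.isFinite_of_finite (K := T.residueField t) _
    (FibDegLib.finite_fiber f (f.finite_preimage_singleton t)), ?_⟩⟩
  show FibDegLib.rk f t ≤ _
  rw [hd t, Nat.cast_le]
  exact hn ⟨t, rfl⟩

end UBddLib
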