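import Groth.Agent.UBddLib.Scheme
import Groth.Agent.WeightLib.EtaleQF
import Groth.Agent.AlgSpLib.Points
import Groth.Agent.AlgSpLib.Basic
import Groth.Agent.AlgSpLib.LocP
import Groth.Prelude.Def_W4decUnivBdd

/-!
# Universally bounded fibres of morphisms from schemes to algebraic spaces
-/

set_option autoImplicit false
set_option linter.style.haveILetI false
set_option backward.isDefEq.respectTransparency false
set_option backward.isDefEq.respectTransparency.types false

universe u

open CategoryTheory CategoryTheory.Limits AlgebraicGeometry TopologicalSpace IsLocalRing Opposite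
open AlgSp AlgSpLib W4dec

namespace UBddLib

theorem isPullback_comp_mono {C : Type*} [Category C] {P X Y Z W : C} {s : P ⟶ X} {c : P ⟶ Y} {a : X ⟶ Z} {p : Y ⟶ Z}
    (h : IsPullback s c a p) (j : Z ⟶ W) [Mono j] : IsPullback s c (a ≫ j) (p ≫ j) := by
  refine IsPullback.of_isLimit' ⟨by simp [reassoc_of% h.w]⟩ (PullbackCone.IsLimit.mk _
    (fun σ => h.lift σ.fst σ.snd ((cancel_mono j).1 (by simpa using σ.condition))) (fun _ => h.lift_fst _ _ _)
    (fun _ => h.lift_snd _ _ _) fun σ m h1 h2 => h.hom_ext ?_ ?_)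
  · rw [h.lift_fst]; exact h1
  · rw [h.lift_snd]; exact h2

/-- An empty scheme is finite of every degree over a field. -/
theorem bdd_of_isEmpty {K : Type u} [Field K] {T : Scheme.{u}} [IsEmpty T] (c : T ⟶ Spec (CommRingCat.of K))
    (n : ℕ) : Bdd n c := by
  refine ⟨FibDegLib.isFinite_of_finite c inferInstance, ?_⟩
  letI := ((Scheme.ΓSpecIso (CommRingCat.of K)).inv ≫ c.appTop).hom.toAlgebra
  haveI : Subsingleton (Γ(T, ⊤) : Type u) := inferInstanceAs (Subsingleton Γ(T, ⊤))
  show Module.rank K (Γ(T, ⊤) : Type u) ≤ _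
  rw [rank_subsingleton']
  exact zero_le

/-- The fibres of `f ≫ j` for an open immersion `j` are those of `f`. -/
theorem bdd_comp_openImmersion {A U' W : Scheme.{u}} (f : A ⟶ U') (j : U' ⟶ W) [IsOpenImmersion j] {n : ℕ}
    (h : ∀ t, Bdd (K := U'.residueField t) n (pullback.snd f (U'.fromSpecResidueField t))) (t : W) :
    Bdd (K := W.residueField t) n (pullback.snd (f ≫ j) (W.fromSpecResidueField t)) := by
  rcases isEmpty_or_nonempty ↥(pullback (f ≫ j) (W.fromSpecResidueField t)) with he | ⟨⟨z⟩⟩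
  · exact bdd_of_isEmpty (K := W.residueField t) _ n
  · obtain ⟨t', rfl⟩ : ∃ t', j t' = t := ⟨f (pullback.fst (f ≫ j) (W.fromSpecResidueField t) z), by
      rw [← Scheme.Hom.comp_apply, ← Scheme.Hom.comp_apply, pullback.condition, Scheme.Hom.comp_apply,
        Scheme.fromSpecResidueField_apply]⟩
    have hg : (U'.fromSpecResidueField t' ≫ j) (closedPoint (U'.residueField t')) = j t' := by
      rw [Scheme.Hom.comp_apply, Scheme.fromSpecResidueField_apply]
    refine (bdd_snd_iff (f ≫ j) (Ω := U'.residueField t') _ hg n).1 ?_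
    let e := (isPullback_comp_mono (IsPullback.of_hasPullback f (U'.fromSpecResidueField t')) j).isoPullback
    exact (h t').of_iso (K := U'.residueField t') e.inv (IsPullback.isoPullback_inv_snd _)

variable {S : Scheme.{u}}

theorem left_of_map {W X Y Z : Over S} {p : W ⟶ X} {q : W ⟶ Y} {f : X ⟶ Z} {g : Y ⟶ Z}
    (h : IsPullback ((yon S).map p) ((yon S).map q) ((yon S).map f) ((yon S).map g)) :
    IsPullback p.left q.left f.left g.left :=
  (IsPullback.of_map (yon S) ((yon S).map_injective (by simpa only [Functor.map_comp] using h.w)) h).map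
    (Over.forget S)

variable {F : Sp S} {U : Over S} {a : (yon S).obj U ⟶ F}

/-- Comparison of two represented pullbacks along a morphism of test schemes. -/
theorem exists_isPullback_left {T V T' V' : Over S} {g : (yon S).obj T ⟶ F}
    {fst : (yon S).obj V ⟶ (yon S).obj U} {c : V ⟶ T}
    (hc : IsPullback fst ((yon S).map c) a g) (α : T' ⟶ T)
    {fst' : (yon S).obj V' ⟶ (yon S).obj U} {c' : V' ⟶ T'}
    (hc' : IsPullback fst' ((yon S).map c') a ((yon S).map α ≫ g)) :
    ∃ m : V' ⟶ V, IsPullback m.left c'.left c.left α.left := by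
  let k : (yon S).obj V' ⟶ (yon S).obj V :=
    hc.lift fst' ((yon S).map c' ≫ (yon S).map α) (by rw [hc'.w, Category.assoc])
  obtain ⟨m, hm⟩ := (yon S).map_surjective k
  exact ⟨m, left_of_map (IsPullback.of_right (by rw [hm, IsPullback.lift_fst]; exact hc')
    (by rw [hm, IsPullback.lift_snd]) hc)⟩

theorem bdd_of_sq {n : ℕ} (hb : DegFibresLE n a) {q : FieldPt F} {T : Over S} {c : T ⟶ q.pt}
    {s : (yon S).obj T ⟶ (yon S).obj U} (sq : IsPullback s ((yon S).map c) a q.toHom) :
    Bdd (K := q.K) n c.left :=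
  (bdd_iff_finrank (K := q.K) n c.left).2 (hb q T c s sq.flip)

theorem exists_sq (hr : Representable a) {T : Over S} (g : (yon S).obj T ⟶ F) :
    ∃ (V : Over S) (c : V ⟶ T) (s : (yon S).obj V ⟶ (yon S).obj U), IsPullback s ((yon S).map c) a g :=
  ⟨_, _, _, hr.isPullback g⟩

theorem degFibresLE_of {n : ℕ} (h : ∀ q : FieldPt F, ∃ (T : Over S) (c : T ⟶ q.pt)
    (s : (yon S).obj T ⟶ (yon S).obj U), IsPullback s ((yon S).map c) a q.toHom ∧ Bdd (K := q.K) n c.left) :
    DegFibresLE n a := fun q T c snd sq => by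
  obtain ⟨T', c', s', sq', hb⟩ := h q
  obtain ⟨m, hm⟩ := exists_isPullback_left sq' (𝟙 q.pt) (fst' := snd) (c' := c)
    (by rw [CategoryTheory.Functor.map_id, Category.id_comp]; exact sq.flip)
  exact (bdd_iff_finrank (K := q.K) _ _).1 ((bdd_of_isPullback (K := q.K) (Ω := q.K) hm n).2 hb)

theorem bdd_rel (hr : Representable a) {p q : FieldPt F} (h : FieldPt.Rel p q) {Tp : Over S} {cp : Tp ⟶ p.pt}
    {sp : (yon S).obj Tp ⟶ (yon S).obj U} (hp : IsPullback sp ((yon S).map cp) a p.toHom) {Tq : Over S}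
    {cq : Tq ⟶ q.pt} {sq : (yon S).obj Tq ⟶ (yon S).obj U} (hq : IsPullback sq ((yon S).map cq) a q.toHom) {n : ℕ}
    (hb : Bdd (K := p.K) n cp.left) : Bdd (K := q.K) n cq.left := by
  obtain ⟨Ω, _, w, α, β, h⟩ := h
  have he : (yon S).map α ≫ p.toHom = (yon S).map β ≫ q.toHom := by
    apply (J S).uliftYonedaEquiv.injective
    rw [GrothendieckTopology.uliftYonedaEquiv_comp, GrothendieckTopology.uliftYonedaEquiv_comp]
    change p.toHom.hom.app _ ⟨_⟩ = q.toHom.hom.app _ ⟨_⟩
    rw [FieldPt.toHom_app, FieldPt.toHom_app]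
    simpa using h
  obtain ⟨T, c, s, sqα⟩ := exists_sq hr ((yon S).map α ≫ p.toHom)
  obtain ⟨m, hm⟩ := exists_isPullback_left hp α sqα
  rw [he] at sqα
  obtain ⟨m', hm'⟩ := exists_isPullback_left hq β sqα
  exact (bdd_of_isPullback (K := q.K) (Ω := Ω) hm' n).1 ((bdd_of_isPullback (K := p.K) (Ω := Ω) hm n).2 hb)

/-- It is enough to bound the fibres over one representative of each point in the image. -/
theorem degFibresLE_of_points (hr : Representable a) {n : ℕ}
    (h : ∀ x ∈ Set.range (Points.ofPt a), ∃ q : FieldPt F, Points.mk q = x ∧ ∃ (T : Over S) (c : T ⟶ q.pt)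
      (s : (yon S).obj T ⟶ (yon S).obj U), IsPullback s ((yon S).map c) a q.toHom ∧ Bdd (K := q.K) n c.left) :
    DegFibresLE n a := degFibresLE_of fun q => by
  obtain ⟨T, c, s, sq⟩ := exists_sq hr q.toHom
  refine ⟨T, c, s, sq, ?_⟩
  rcases isEmpty_or_nonempty ↥T.left with he | ⟨⟨t⟩⟩
  · exact bdd_of_isEmpty (K := q.K) _ n
  · obtain ⟨σ, rfl⟩ := (yon S).map_surjective s
    obtain ⟨q', hq', T', c', s', sq', hb⟩ := h (Points.mk q) ⟨σ.left t, by
      rw [← Points.ofPt_toHom q (c.left t), ← ofPt_yon_comp, ← ofPt_yon_comp, sq.w]⟩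
    exact bdd_rel hr (Points.mk_eq_mk_iff.1 hq') sq' sq hb

theorem bdd_fiber {n : ℕ} (hb : DegFibresLE n a) (hr : Representable a) {T V : Over S} {g : (yon S).obj T ⟶ F}
    {fst : (yon S).obj V ⟶ (yon S).obj U} {c : V ⟶ T} (hc : IsPullback fst ((yon S).map c) a g) (t : T.left) :
    Bdd (K := T.left.residueField t) n (pullback.snd c.left (T.left.fromSpecResidueField t)) := by
  let q := FieldPt.ofPt g t
  obtain ⟨T', c', s', sq⟩ := exists_sq hr q.toHom
  have hb' := bdd_of_sq hb sq
  let ι : q.pt ⟶ T := Over.homMk (T.left.fromSpecResidueField t) rfl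
  rw [show q.toHom = (yon S).map ι ≫ g from FieldPt.toHom_ofPt g t] at sq
  obtain ⟨m, hm⟩ := exists_isPullback_left hc ι sq
  exact hb'.of_iso (K := T.left.residueField t) hm.isoPullback.inv hm.isoPullback_inv_snd

theorem degFibresLE_comp {V : Over S} (f : V ⟶ U) {n m : ℕ} (hf : DegFibresLE m ((yon S).map f))
    (ha : DegFibresLE n a) (hr : Representable a) : DegFibresLE (m * n) ((yon S).map f ≫ a) :=
  degFibresLE_of fun q => by
    obtain ⟨T, c, s, sq⟩ := exists_sq hr q.toHom
    have hrf : Representable ((yon S).map f) := (IsAlgSpace.yon_obj U).representable_from_yon _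
    obtain ⟨T', c', s', sq'⟩ := exists_sq hrf s
    refine ⟨T', c' ≫ c, s', by rw [Functor.map_comp]; exact sq'.paste_vert sq, ?_⟩
    show Bdd (K := q.K) _ (c'.left ≫ c.left)
    exact (bdd_of_sq ha sq).comp (K := q.K) c'.left fun t => bdd_fiber hf hrf sq' t

theorem degFibresLE_yon {V : Over S} (f : V ⟶ U) {n : ℕ}
    (h : ∀ t, Bdd (K := U.left.residueField t) n (pullback.snd f.left (U.left.fromSpecResidueField t))) :
    DegFibresLE n ((yon S).map f) := degFibresLE_of fun q => by
  obtain ⟨T, c, s, sq⟩ := exists_sq ((IsAlgSpace.yon_obj U).representable_from_yon ((yon S).map f)) q.toHom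
  refine ⟨T, c, s, sq, ?_⟩
  obtain ⟨α, hα⟩ := (yon S).map_surjective q.toHom
  obtain ⟨σ, rfl⟩ := (yon S).map_surjective s
  have hl := left_of_map (hα ▸ sq)
  exact ((bdd_snd_iff f.left (Ω := q.K) α.left rfl n).2 (h _)).of_iso (K := q.K) hl.isoPullback.hom
    hl.isoPullback_hom_snd

theorem degFibresLE_of_family (hr : Representable a) {ι : Type} [Fintype ι] (A : ι → Over S) (π : ∀ i, A i ⟶ U)
    (hfl : ∀ i, Flat (π i).left) (hs : ∀ v, ∃ i, v ∈ Set.range (π i).left) (n : ι → ℕ)
    (h : ∀ i, DegFibresLE (n i) ((yon S).map (π i) ≫ a)) : DegFibresLE (∑ i, n i) a :=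
  degFibresLE_of fun q => by
    obtain ⟨T, c, s, sq⟩ := exists_sq hr q.toHom
    obtain ⟨σ, rfl⟩ := (yon S).map_surjective s
    refine ⟨T, c, _, sq, ?_⟩
    choose B p π' sq' using fun i => exists_isPullback_yon ((yon S).map (π i)) ((yon S).map σ)
      ((IsAlgSpace.yon_obj U).representable_from_yon _)
    have hl := fun i => left_of_map (sq' i)
    haveI : ∀ i, Flat (π' i).left := fun i => MorphismProperty.of_isPullback (P := @Flat) (hl i) (hfl i)
    refine bdd_of_flat_family (K := q.K) c.left (fun i => (π' i).left) (fun t => ?_) n fun i => ?_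
    · obtain ⟨i, v, hv⟩ := hs (σ.left t)
      obtain ⟨z, -, hz⟩ := Scheme.Pullback.exists_preimage_pullback v t hv
      exact ⟨i, (hl i).isoPullback.inv z, by rw [← Scheme.Hom.comp_apply, (hl i).isoPullback_inv_snd, hz]⟩
    · show Bdd (K := q.K) _ (π' i ≫ c).left
      exact bdd_of_sq (h i) (by rw [Functor.map_comp]; exact (sq' i).paste_vert sq)

theorem degFibresLE_comp_mono {G : Sp S} (j : F ⟶ G) [Mono j] (hr : Representable a) (hr' : Representable (a ≫ j))
    {n : ℕ} (hb : DegFibresLE n a) : DegFibresLE n (a ≫ j) :=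
  degFibresLE_of_points hr' fun x => by
    rintro ⟨v, rfl⟩
    obtain ⟨T, c, s, sq⟩ := exists_sq hr (FieldPt.ofPt a v).toHom
    refine ⟨(FieldPt.ofPt a v).map j, Points.map_ofPt a j v, T, c, s, ?_, bdd_of_sq hb sq⟩
    rw [FieldPt.toHom_map]
    exact isPullback_comp_mono sq j

/-- Etale maps from affine schemes are bounded as soon as some etale cover by schemes is bounded. -/
theorem hasUnivBddFibres_of_family (hF : IsAlgSpace F) {ι : Type u} (W : ι → Over S)
    (φ : ∀ i, (yon S).obj (W i) ⟶ F) (hφ : ∀ i, RepWith @Etale (φ i))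
    (hsurj : ∀ x : Points F, ∃ (i : ι) (v : ↥(W i).left), Points.ofPt (φ i) v = x)
    (hb : ∀ i, HasUnivBddFibres (φ i)) {V : Over S} [IsAffine V.left] (ψ : (yon S).obj V ⟶ F)
    (hψ : RepWith @Etale ψ) : HasUnivBddFibres ψ := by
  have key : ∀ v : V.left, ∃ (A : Over S) (π : A ⟶ V),
      Etale π.left ∧ v ∈ Set.range π.left ∧ HasUnivBddFibres ((yon S).map π ≫ ψ) := by
    intro v
    obtain ⟨i, x, hx⟩ := hsurj (Points.ofPt ψ v)
    obtain ⟨R, p, q, sq⟩ := exists_isPullback_yon (φ i) ψ (hφ i).rep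
    obtain ⟨r, hr1, hr2⟩ := (ofPt_eq_ofPt_iff sq x v).1 hx
    haveI : Etale q.left := etale_left (repWith_of_isPullback sq (hφ i))
    haveI : Etale p.left := etale_left (repWith_of_isPullback sq.flip hψ)
    obtain ⟨_, ⟨U', hU', rfl⟩, hxU, -⟩ :=
      (W i).left.isBasis_affineOpens.exists_subset_of_mem_open (Set.mem_univ x) isOpen_univ
    obtain ⟨_, ⟨R', hR', rfl⟩, hrR, hle⟩ := R.left.isBasis_affineOpens.exists_subset_of_mem_open
      (show r ∈ (p.left ⁻¹ᵁ U' : Set R.left) from by show p.left r ∈ U'; rwa [hr1]) (p.left ⁻¹ᵁ U').2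
    haveI : IsAffine (Scheme.Opens.toScheme U') := hU'
    haveI : IsAffine (Scheme.Opens.toScheme R') := hR'
    let k : (Scheme.Opens.toScheme R') ⟶ (Scheme.Opens.toScheme U') := p.left.resLE U' R' hle
    haveI : Etale k := inferInstanceAs (Etale (p.left.resLE U' R' hle))
    haveI : LocallyQuasiFinite k := WeightLib.locallyQuasiFinite_of_etale k
    obtain ⟨m, hm⟩ := exists_bdd_fibres k
    let A : Over S := Over.mk ((Scheme.Opens.ι R') ≫ R.hom)
    let jR : A ⟶ R := Over.homMk (Scheme.Opens.ι R') rfl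
    have hkm : DegFibresLE m ((yon S).map (jR ≫ p)) := degFibresLE_yon _ fun t => by
      have he : (jR ≫ p).left = k ≫ (Scheme.Opens.ι U') := by
        simp [jR, k, Scheme.Hom.resLE_comp_ι]
      rw [he]
      exact bdd_comp_openImmersion k _ hm t
    obtain ⟨n, hn⟩ := hb i
    refine ⟨A, jR ≫ q, ?_, ⟨⟨r, hrR⟩, ?_⟩, m * n, ?_⟩
    · show Etale ((Scheme.Opens.ι R') ≫ q.left)
      infer_instance
    · show q.left _ = v
      exact hr2
    · have := degFibresLE_comp (jR ≫ p) hkm hn (hφ i).rep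
      rwa [Functor.map_comp, Category.assoc, ← sq.w, ← Category.assoc, ← Functor.map_comp]
  choose A π het hmem hbd using key
  haveI : CompactSpace V.left := inferInstance
  obtain ⟨s, hs⟩ := isCompact_univ.elim_finite_subcover (fun v => Set.range (π v).left)
    (fun v => by haveI := het v; exact (π v).left.isOpenMap.isOpen_range)
    (fun v _ => Set.mem_iUnion.2 ⟨v, hmem v⟩)
  choose d hd using hbd
  refine ⟨_, degFibresLE_of_family (hF.representable_from_yon ψ) (fun k => A (s.equivFin.symm k))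
    (fun k => π (s.equivFin.symm k)) (fun k => by haveI := het (s.equivFin.symm k); infer_instance) (fun v => ?_)
    (fun k => d (s.equivFin.symm k)) fun k => hd _⟩
  obtain ⟨w, hw, hv⟩ := Set.mem_iUnion₂.1 (hs (Set.mem_univ v))
  refine ⟨s.equivFin ⟨w, hw⟩, ?_⟩
  rw [Equiv.symm_apply_apply]
  exact hv

end UBddLib
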